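import Mathlib.RingTheory.Flat.Basic
import Mathlib.RingTheory.Noetherian.Basic
import Mathlib.LinearAlgebra.TensorProduct.RightExactness
import Mathlib.RingTheory.Flat.Tensor
import Mathlib.LinearAlgebra.TensorProduct.Pi

/-!
# Cohomology of a complex with finite cohomology, tensored with a flat module which is a product

`C₀ → C₁ → C₂` a complex of modules over a noetherian ring with finite cohomology `H` at `C₁`,
`D' = ∏ D_s` flat modules: `H(D' ⊗ C) → ∏ H(D_s ⊗ C)` is bijective (`inj`, `surj`).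
-/

set_option autoImplicit false
universe u v w

open TensorProduct

namespace K123.GlueAlg

variable {R : Type u} [CommRing R] {C₀ C₁ C₂ : Type v} [AddCommGroup C₀] [AddCommGroup C₁] [AddCommGroup C₂]
  [Module R C₀] [Module R C₁] [Module R C₂] (d₀ : C₀ →ₗ[R] C₁) (d₁ : C₁ →ₗ[R] C₂)

/-- `z` generates the cohomology at `C₁`. -/
structure Gen {m : ℕ} (z : Fin m → C₁) : Prop where
  cyc : ∀ i, d₁ (z i) = 0
  gen : ∀ x, d₁ x = 0 → ∃ (r : Fin m → R) (y : C₀), x = ∑ i, r i • z i + d₀ y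

variable {d₀ d₁} {m : ℕ} {z : Fin m → C₁}

section one

variable (B : Type w) [AddCommGroup B] [Module R B] [Module.Flat R B]

theorem Gen.exists_of_cocycle (hz : Gen d₀ d₁ z) (x : B ⊗[R] C₁) (hx : d₁.lTensor B x = 0) :
    ∃ (β : Fin m → B) (y : B ⊗[R] C₀), x = ∑ i, β i ⊗ₜ[R] z i + d₀.lTensor B y := by
  have h1 : Function.Exact ((LinearMap.ker d₁).subtype.lTensor B) (d₁.lTensor B) :=
    Module.Flat.lTensor_exact B (LinearMap.exact_subtype_ker_map d₁)
  obtain ⟨x', rfl⟩ := (h1 x).mp hx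
  clear hx
  induction x' using TensorProduct.induction_on with
  | zero => exact ⟨0, 0, by simp⟩
  | tmul b w =>
    obtain ⟨r, y, hy⟩ := hz.gen w.1 w.2
    refine ⟨fun i => r i • b, b ⊗ₜ y, ?_⟩
    rw [LinearMap.lTensor_tmul, LinearMap.lTensor_tmul, Submodule.subtype_apply, hy, TensorProduct.tmul_add,
      TensorProduct.tmul_sum]
    congr 1
    refine Finset.sum_congr rfl fun i _ => ?_
    rw [TensorProduct.smul_tmul]
  | add x y hx hy =>
    obtain ⟨β, u, h⟩ := hx
    obtain ⟨β', u', h'⟩ := hy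
    refine ⟨β + β', u + u', ?_⟩
    rw [map_add, map_add, h, h']
    simp only [Pi.add_apply, TensorProduct.add_tmul, Finset.sum_add_distrib]
    abel

/-- The relations between the `z i` in cohomology. -/
def rel (d₀ : C₀ →ₗ[R] C₁) (z : Fin m → C₁) : Submodule R (Fin m → R) :=
  (LinearMap.range d₀).comap (Fintype.linearCombination R z)

theorem mem_rel {r : Fin m → R} : r ∈ rel d₀ z ↔ ∃ y, d₀ y = ∑ i, r i • z i := by
  rw [rel, Submodule.mem_comap, LinearMap.mem_range, Fintype.linearCombination_apply]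

theorem exists_of_boundary {l : ℕ} {ρ : Fin l → Fin m → R} (hρ : Submodule.span R (Set.range ρ) = rel d₀ z)
    (β : Fin m → B) (y : B ⊗[R] C₀) (hy : ∑ i, β i ⊗ₜ[R] z i = d₀.lTensor B y) :
    ∃ e : Fin l → B, ∀ i, β i = ∑ j, ρ j i • e j := by
  let q := (LinearMap.range d₀).mkQ
  let φ : (Fin m → R) →ₗ[R] C₁ ⧸ LinearMap.range d₀ := q ∘ₗ Fintype.linearCombination R z
  have hker : LinearMap.ker φ = rel d₀ z := by
    rw [LinearMap.ker_comp, Submodule.ker_mkQ]
    rfl
  have h1 : Function.Exact ((LinearMap.ker φ).subtype.lTensor B) (φ.lTensor B) :=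
    Module.Flat.lTensor_exact B (LinearMap.exact_subtype_ker_map φ)
  let b : B ⊗[R] (Fin m → R) := ∑ i, β i ⊗ₜ[R] Pi.single i 1
  have hb : φ.lTensor B b = 0 := by
    have h2 : (Fintype.linearCombination R z).lTensor B b = ∑ i, β i ⊗ₜ[R] z i := by
      rw [map_sum]
      refine Finset.sum_congr rfl fun i _ => ?_
      rw [LinearMap.lTensor_tmul, Fintype.linearCombination_apply_single, one_smul]
    rw [LinearMap.lTensor_comp, LinearMap.comp_apply, h2, hy, ← LinearMap.comp_apply, ← LinearMap.lTensor_comp]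
    have h3 : q ∘ₗ d₀ = 0 := by
      ext y
      exact (Submodule.Quotient.mk_eq_zero _).mpr ⟨y, rfl⟩
    rw [h3, LinearMap.lTensor_zero, LinearMap.zero_apply]
  obtain ⟨b', hb'⟩ := (h1 b).mp hb
  have h4 : ∀ b' : B ⊗[R] LinearMap.ker φ, ∃ e : Fin l → B,
      (LinearMap.ker φ).subtype.lTensor B b' = ∑ j, e j ⊗ₜ[R] ρ j := by
    intro b'
    induction b' using TensorProduct.induction_on with
    | zero => exact ⟨0, by simp⟩
    | tmul c w =>
      have hw : w.1 ∈ Submodule.span R (Set.range ρ) := by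
        rw [hρ, ← hker]; exact w.2
      obtain ⟨r, hr⟩ := (Submodule.mem_span_range_iff_exists_fun R).mp hw
      refine ⟨fun j => r j • c, ?_⟩
      rw [LinearMap.lTensor_tmul, Submodule.subtype_apply, ← hr, TensorProduct.tmul_sum]
      refine Finset.sum_congr rfl fun j _ => ?_
      rw [TensorProduct.smul_tmul]
    | add x y hx hy =>
      obtain ⟨e, he⟩ := hx
      obtain ⟨e', he'⟩ := hy
      refine ⟨e + e', ?_⟩
      rw [map_add, he, he']
      simp only [Pi.add_apply, TensorProduct.add_tmul, Finset.sum_add_distrib]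
  obtain ⟨e, he⟩ := h4 b'
  rw [hb'] at he
  refine ⟨e, fun i => ?_⟩
  have h5 := congrArg (fun t => TensorProduct.rid R B ((LinearMap.proj (R := R) (φ := fun _ : Fin m => R) i).lTensor B t)) he
  simp only [b, map_sum, LinearMap.lTensor_tmul, LinearMap.proj_apply, TensorProduct.rid_tmul] at h5
  rw [← h5, Finset.sum_eq_single i]
  · rw [Pi.single_eq_same, one_smul]
  · intro j _ hj
    rw [Pi.single_eq_of_ne hj.symm, zero_smul]
  · intro h
    exact absurd (Finset.mem_univ i) h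

end one

section prod

variable {S : Type*} {D' : Type w} [AddCommGroup D'] [Module R D'] [Module.Flat R D'] {D : S → Type w}
  [∀ s, AddCommGroup (D s)] [∀ s, Module R (D s)] [∀ s, Module.Flat R (D s)] (π : ∀ s, D' →ₗ[R] D s)
  (hπ : Function.Bijective (fun (a : D') (s : S) => π s a))

include hπ in
theorem Gen.inj [IsNoetherianRing R] (hz : Gen d₀ d₁ z) (x : D' ⊗[R] C₁) (hx : d₁.lTensor D' x = 0)
    (h : ∀ s, ∃ y, d₀.lTensor (D s) y = (π s).rTensor C₁ x) : ∃ y, d₀.lTensor D' y = x := by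
  obtain ⟨β, y, rfl⟩ := hz.exists_of_cocycle D' x hx
  obtain ⟨l, ρ, hρ⟩ := Submodule.fg_iff_exists_fin_generating_family.mp (IsNoetherian.noetherian (rel d₀ z))
  have h1 : ∀ s, ∃ e : Fin l → D s, ∀ i, π s (β i) = ∑ j, ρ j i • e j := by
    intro s
    obtain ⟨u, hu⟩ := h s
    refine exists_of_boundary (D s) hρ (fun i => π s (β i)) (u - (π s).rTensor C₀ y) ?_
    rw [map_sub, hu, map_add, map_sum]
    have e1 : d₀.lTensor (D s) ((π s).rTensor C₀ y) = (π s).rTensor C₁ (d₀.lTensor D' y) := by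
      rw [← LinearMap.comp_apply, ← LinearMap.comp_apply, LinearMap.lTensor_comp_rTensor,
        LinearMap.rTensor_comp_lTensor]
    rw [e1, add_sub_cancel_right]
    rfl
  choose e he using h1
  have h2 : ∀ j, ∃ e' : D', ∀ s, π s e' = e s j := fun j => by
    obtain ⟨e', he'⟩ := hπ.2 (fun s => e s j)
    exact ⟨e', fun s => congrFun he' s⟩
  choose e' he' using h2
  have h3 : ∀ i, β i = ∑ j, ρ j i • e' j := by
    intro i
    apply hπ.1
    funext s
    change π s (β i) = π s _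
    rw [he s i, map_sum]
    refine Finset.sum_congr rfl fun j _ => ?_
    rw [map_smul, he']
  have h4 : ∀ j, ∃ y, d₀ y = ∑ i, ρ j i • z i := fun j =>
    mem_rel.mp (hρ ▸ Submodule.subset_span ⟨j, rfl⟩)
  choose w hw using h4
  refine ⟨∑ j, e' j ⊗ₜ w j + y, ?_⟩
  rw [map_add, map_sum]
  congr 1
  have h5 : ∀ i, β i ⊗ₜ[R] z i = ∑ j, (e' j ⊗ₜ[R] (ρ j i • z i)) := by
    intro i
    rw [h3 i, TensorProduct.sum_tmul]
    refine Finset.sum_congr rfl fun j _ => ?_
    rw [TensorProduct.smul_tmul]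
  rw [Finset.sum_congr rfl fun i _ => h5 i, Finset.sum_comm]
  refine Finset.sum_congr rfl fun j _ => ?_
  rw [LinearMap.lTensor_tmul, hw j, TensorProduct.tmul_sum]

omit [Module.Flat R D'] in
include hπ in
theorem Gen.surj (hz : Gen d₀ d₁ z) (x : ∀ s, D s ⊗[R] C₁)
    (hx : ∀ s, d₁.lTensor (D s) (x s) = 0) :
    ∃ x' : D' ⊗[R] C₁, d₁.lTensor D' x' = 0 ∧
      ∀ s, ∃ y, x s = (π s).rTensor C₁ x' + d₀.lTensor (D s) y := by
  choose β y h using fun s => hz.exists_of_cocycle (D s) (x s) (hx s)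
  have h2 : ∀ i, ∃ e' : D', ∀ s, π s e' = β s i := fun i => by
    obtain ⟨e', he'⟩ := hπ.2 (fun s => β s i)
    exact ⟨e', fun s => congrFun he' s⟩
  choose e' he' using h2
  refine ⟨∑ i, e' i ⊗ₜ z i, ?_, fun s => ⟨y s, ?_⟩⟩
  · rw [map_sum]
    refine Finset.sum_eq_zero fun i _ => ?_
    rw [LinearMap.lTensor_tmul, hz.cyc, TensorProduct.tmul_zero]
  · rw [h s, map_sum]
    congr 1
    refine Finset.sum_congr rfl fun i _ => ?_
    rw [LinearMap.rTensor_tmul, he']

end prod

end K123.GlueAlg
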