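import Groth.Agent.Ega3B.CombCmp
import Groth.Agent.PicLoc.K123.GlueAlg

/-!
# Cohomology of a sheaf whose cochains are `D' ⊗ C`, `D'` a flat module which is a product
-/

set_option autoImplicit false
universe u

open CategoryTheory CategoryTheory.Limits TopologicalSpace Opposite CategoryTheory.Abelian TensorProduct

namespace K123.GlueCech

open Groth.Agent.Ega3B Groth.Agent.Ega3B.CombRes

attribute [local instance 3000] LocExact.hasSheafify

variable {Z : TopCat.{u}} (D : Data Z) {R : Type u} [CommRing R] (C : ℕ → Type u) [∀ n, AddCommGroup (C n)]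
  [∀ n, Module R (C n)] (d : ∀ n, C n →ₗ[R] C (n + 1))

/-- The cochains of `G` are `B ⊗ C`. -/
structure Cmp (B : Type u) [AddCommGroup B] [Module R B] (G : (Opens Z)ᵒᵖ ⥤ AddCommGrpCat.{u}) where
  e : ∀ n, B ⊗[R] C n →+ D.K n G
  bij : ∀ n, Function.Bijective (e n)
  comm : ∀ n x, e (n + 1) ((d n).lTensor B x) = D.δ n G (e n x)

variable {D C d}

variable {B : Type u} [AddCommGroup B] [Module R B] {G : (Opens Z)ᵒᵖ ⥤ AddCommGrpCat.{u}}

theorem Cmp.exists_eq (c : Cmp D C d B G) {n : ℕ} (x : D.K n G) : ∃ y, c.e n y = x := (c.bij n).2 x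

theorem Cmp.eq_zero (c : Cmp D C d B G) {n : ℕ} (y : B ⊗[R] C n) : (d n).lTensor B y = 0 ↔ D.δ n G (c.e n y) = 0 := by
  rw [← c.comm]
  constructor
  · intro h
    rw [h, map_zero]
  · intro h
    exact (c.bij (n + 1)).1 (h.trans (map_zero _).symm)

variable {S : Type u} {D' : Type u} [AddCommGroup D'] [Module R D'] [Module.Flat R D'] {Ds : S → Type u}
  [∀ s, AddCommGroup (Ds s)] [∀ s, Module R (Ds s)] [∀ s, Module.Flat R (Ds s)] (π : ∀ s, D' →ₗ[R] Ds s)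
  (hπ : Function.Bijective (fun (a : D') (s : S) => π s a))
  {F : Sheaf (Opens.grothendieckTopology Z) AddCommGrpCat.{u}}
  {G : S → Sheaf (Opens.grothendieckTopology Z) AddCommGrpCat.{u}} (φ : ∀ s, F ⟶ G s)
  (c : Cmp D C d D' F.obj) (cs : ∀ s, Cmp D C d (Ds s) (G s).obj)
  (hφ : ∀ s n x, D.Kmap n (φ s).hom (c.e n x) = (cs s).e n ((π s).rTensor (C n) x))

variable [HasExt.{u} (Sheaf (Opens.grothendieckTopology Z) AddCommGrpCat.{u})]
  (hD : D.LocGood) (hF : D.Acyclic F) (hG : ∀ s, D.Acyclic (G s))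

include hπ c cs hφ hD hF hG in
theorem eq_zero [IsNoetherianRing R] (n : ℕ) {m : ℕ} {z : Fin m → C (n + 1)} (hz : GlueAlg.Gen (d n) (d (n + 1)) z)
    (x : Sheaf.H.{u} F (n + 1)) (hx : ∀ s, Sheaf.H.map (φ s) (n + 1) x = 0) : x = 0 := by
  obtain ⟨⟨k, hk⟩, rfl⟩ := Data.θ_surjective hD hF (n + 1) x
  obtain ⟨y, rfl⟩ := c.exists_eq k
  have hy : (d (n + 1)).lTensor D' y = 0 := (c.eq_zero y).mpr hk
  have h1 : ∀ s, ∃ w, (d n).lTensor (Ds s) w = (π s).rTensor (C (n + 1)) y := by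
    intro s
    have h2 := hx s
    rw [← Data.θ_naturality] at h2
    obtain ⟨v, hv⟩ := Data.θ_exact hD (hG s) n _ h2
    obtain ⟨w, rfl⟩ := (cs s).exists_eq v
    refine ⟨w, ((cs s).bij (n + 1)).1 ?_⟩
    rw [(cs s).comm, hv]
    exact hφ s (n + 1) y
  obtain ⟨w, hw⟩ := GlueAlg.Gen.inj π hπ hz y hy h1
  have h3 := Data.θ_δ (F := F) hD n (c.e n w)
  rw [← h3]
  congr 1
  apply Subtype.ext
  change c.e (n + 1) y = D.δ n F.obj (c.e n w)
  rw [← c.comm, hw]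

include hπ c cs hφ hD hG in
theorem exists_map_eq (hF : D.Acyclic F) (n : ℕ) {m : ℕ} {z : Fin m → C (n + 1)}
    (hz : GlueAlg.Gen (d n) (d (n + 1)) z) (x : ∀ s, Sheaf.H.{u} (G s) (n + 1)) :
    ∃ x' : Sheaf.H.{u} F (n + 1), ∀ s, Sheaf.H.map (φ s) (n + 1) x' = x s := by
  have h1 : ∀ s, ∃ y : Ds s ⊗[R] C (n + 1), ∃ h : D.δ (n + 1) (G s).obj ((cs s).e (n + 1) y) = 0,
      Data.θ (G s) hD (n + 1) ⟨(cs s).e (n + 1) y, h⟩ = x s := by
    intro s
    obtain ⟨⟨k, hk⟩, h⟩ := Data.θ_surjective hD (hG s) (n + 1) (x s)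
    obtain ⟨y, rfl⟩ := (cs s).exists_eq k
    exact ⟨y, hk, h⟩
  choose y hy hyx using h1
  obtain ⟨y', hy', h2⟩ := GlueAlg.Gen.surj π hπ hz y (fun s => ((cs s).eq_zero (y s)).mpr (hy s))
  have hk : D.δ (n + 1) F.obj (c.e (n + 1) y') = 0 := (c.eq_zero y').mp hy'
  refine ⟨Data.θ F hD (n + 1) ⟨c.e (n + 1) y', hk⟩, fun s => ?_⟩
  obtain ⟨w, hw⟩ := h2 s
  rw [← Data.θ_naturality, ← hyx s]
  have h3 := Data.θ_δ (F := G s) hD n ((cs s).e n w)
  have h4 : (⟨(cs s).e (n + 1) (y s), hy s⟩ : (D.δ (n + 1) (G s).obj).ker) =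
      D.kerMap (n + 1) (φ s).hom ⟨c.e (n + 1) y', hk⟩ + ⟨D.δ n (G s).obj ((cs s).e n w), D.δ_δ n _⟩ := by
    apply Subtype.ext
    change (cs s).e (n + 1) (y s) = D.Kmap (n + 1) (φ s).hom (c.e (n + 1) y') + D.δ n (G s).obj ((cs s).e n w)
    rw [hφ, ← (cs s).comm, ← map_add, ← hw]
  rw [h4, map_add, h3, add_zero]

end K123.GlueCech
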