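import Groth.Agent.CohqB.HLes

/-!
# A diagram chase: glueing classes of degree one along maps of short exact sequences
-/

set_option autoImplicit false
universe u w

open CategoryTheory CategoryTheory.Limits Opposite Abelian

namespace K123.GlueChase

open Groth.Agent.CohqB

variable {C : Type u} [SmallCategory C] {J : GrothendieckTopology C}
  [HasSheafify J AddCommGrpCat.{u}] [HasExt.{u} (Sheaf J AddCommGrpCat.{u})]

theorem exists_glue {A : ShortComplex (Sheaf J AddCommGrpCat.{u})} (hA : A.ShortExact) {S : Type w}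
    {T : S → ShortComplex (Sheaf J AddCommGrpCat.{u})} (hT : ∀ s, (T s).ShortExact) (φ : ∀ s, A ⟶ T s)
    (hinj : ∀ x : Sheaf.H.{u} A.X₁ 2, (∀ s, Sheaf.H.map (φ s).τ₁ 2 x = 0) → x = 0)
    (hsurj : ∀ z : ∀ s, Sheaf.H.{u} (T s).X₁ 1, ∃ z' : Sheaf.H.{u} A.X₁ 1, ∀ s, Sheaf.H.map (φ s).τ₁ 1 z' = z s)
    (n : Sheaf.H.{u} A.X₃ 1) (l : ∀ s, Sheaf.H.{u} (T s).X₂ 1)
    (h : ∀ s, Sheaf.H.map (T s).g 1 (l s) = Sheaf.H.map (φ s).τ₃ 1 n) :
    ∃ l' : Sheaf.H.{u} A.X₂ 1, Sheaf.H.map A.g 1 l' = n ∧ ∀ s, Sheaf.H.map (φ s).τ₂ 1 l' = l s := by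
  have h1 : HLes.δ hA 1 n = 0 := by
    apply hinj
    intro s
    rw [HLes.δ_naturality hA (hT s) (φ s), ← h s, HLes.δ_map_g]
  obtain ⟨l₀, hl₀⟩ := HLes.exact₃ hA 1 n h1
  have h2 : ∀ s, ∃ z : Sheaf.H.{u} (T s).X₁ 1, Sheaf.H.map (T s).f 1 z = l s - Sheaf.H.map (φ s).τ₂ 1 l₀ := by
    intro s
    apply HLes.exact₂ (hT s)
    rw [map_sub, h s, ← hl₀, ← Sheaf.H.map_comp_apply, ← Sheaf.H.map_comp_apply, (φ s).comm₂₃, sub_self]
  choose z hz using h2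
  obtain ⟨z', hz'⟩ := hsurj z
  refine ⟨l₀ + Sheaf.H.map A.f 1 z', ?_, fun s => ?_⟩
  · rw [map_add, hl₀, HLes.map_g_map_f, add_zero]
  · rw [map_add, ← Sheaf.H.map_comp_apply, ← (φ s).comm₁₂, Sheaf.H.map_comp_apply, hz', hz]
    abel

end K123.GlueChase
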