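import Groth.Agent.PicLoc.K123.GlueSec
import Groth.Agent.PicLoc.K123.GlueCech
import Groth.Agent.Ega3B.CombMod
import Groth.Agent.Ega3B.CechBC

/-!
# The cochains of the pushed forward ideal of `Y_B` are `B ⊗ C`, `C` the cochains of the ideal of `Y`
-/

set_option autoImplicit false
set_option linter.style.haveILetI false
universe u

open CategoryTheory CategoryTheory.Limits AlgebraicGeometry Opposite TopologicalSpace TensorProduct

namespace K123.GlueCmp

open K729.SecPush K257.RTw K123.GlueSeq K123.GlueTens K123.GlueSec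
open Groth.Agent Groth.Agent.Ega3B Groth.Agent.Ega3B.CubeData Groth.Agent.Ega3B.CombRes
open Groth.Agent.Ega3B.CechBC (pre inf_pre)
open Groth.Agent.CohtopA.Sec (Γs m)

variable {R : Type u} [CommRing R] {X Y : Scheme.{u}} (f : X ⟶ Spec (CommRingCat.of R)) (i : Y ⟶ X)
  [IsClosedImmersion i] (B : Under (CommRingCat.of R))

section one

variable {W : X.Opens} {V : (tw f B).Opens} (hV : V = pr f B ⁻¹ᵁ W)

theorem app_EV : letI := modM f (ClSub.idealMod i.ker) W; letI := algU B;
    ∀ x : B.right ⊗[R] Γ(ClSub.idealMod i.ker, W), (mx f i rfl B).app V (EV f i B hV x) = 0 := by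
  letI := modM f (ClSub.idealMod i.ker) W
  letI := algU B
  intro x
  induction x using TensorProduct.induction_on with
  | zero => rw [map_zero, map_zero]
  | tmul b m =>
    have h1 := app_appLE (mx_pr f i rfl B) hV.le (preimage_mx f i B hV).le (vl i m)
    rw [app_vl, map_zero] at h1
    rw [EV_tmul, map_mul, h1, mul_zero]
  | add x y hx hy => rw [map_add, map_add, hx, hy, add_zero]

/-- The base change map on sections of ideals. -/
noncomputable def sg : letI := modM f (ClSub.idealMod i.ker) W; letI := algU B;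
    B.right ⊗[R] Γ(ClSub.idealMod i.ker, W) →+ Γ(ClSub.idealMod (mx f i rfl B).ker, V) :=
  letI := modM f (ClSub.idealMod i.ker) W
  letI := algU B
  AddMonoidHom.mk' (fun x => (exists_vl (mx f i rfl B) (EV f i B hV x) (app_EV f i B hV x)).choose) (fun x y => by
    apply vl_injective
    rw [vl_add, (exists_vl (mx f i rfl B) (EV f i B hV (x + y)) (app_EV f i B hV _)).choose_spec,
      (exists_vl (mx f i rfl B) (EV f i B hV x) (app_EV f i B hV _)).choose_spec,
      (exists_vl (mx f i rfl B) (EV f i B hV y) (app_EV f i B hV _)).choose_spec, map_add])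

theorem vl_sg : letI := modM f (ClSub.idealMod i.ker) W; letI := algU B;
    ∀ x : B.right ⊗[R] Γ(ClSub.idealMod i.ker, W), vl (mx f i rfl B) (sg f i B hV x) = EV f i B hV x :=
  letI := modM f (ClSub.idealMod i.ker) W
  letI := algU B
  fun x => (exists_vl (mx f i rfl B) (EV f i B hV x) (app_EV f i B hV _)).choose_spec

theorem vl_sg_tmul : letI := modM f (ClSub.idealMod i.ker) W; letI := algU B;
    ∀ (b : B.right) (m : Γ(ClSub.idealMod i.ker, W)), vl (mx f i rfl B) (sg f i B hV (b ⊗ₜ m)) =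
      (gl (qr f B) V).hom b * (pr f B).appLE W V hV.le (vl i m) :=
  fun _ _ => vl_sg f i B hV _

theorem bijective_sg (hB : B.hom.hom.Flat) (hW : IsAffineOpen W) :
    letI := modM f (ClSub.idealMod i.ker) W; letI := algU B; Function.Bijective (sg f i B hV) := by
  letI := modM f (ClSub.idealMod i.ker) W
  letI := algU B
  refine ⟨fun x y hxy => EV_injective f i B hV hB hW ?_, fun y => ?_⟩
  · rw [← vl_sg, ← vl_sg, hxy]
  · obtain ⟨x, hx⟩ := (EV_range f i B hV hB hW (vl (mx f i rfl B) y)).mp (app_vl _ y)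
    exact ⟨x, vl_injective _ V ((vl_sg f i B hV x).trans hx)⟩

end one

variable {ι : Type} [LinearOrder ι] [Fintype ι] (U : ι → X.Opens)

/-- The ordered Čech datum on `X`. -/
noncomputable abbrev DX (U : ι → X.Opens) : Data X.toTopCat := cech (X := X.toTopCat) U

/-- The cochains of the ideal of `Y`. -/
noncomputable abbrev CX (n : ℕ) : Type u := CombMod.C (Coh.toGlobal f) (DX U) (ClSub.idealMod i.ker) n

/-- The differential. -/
noncomputable abbrev dX (n : ℕ) : CX f i U n →ₗ[R] CX f i U (n + 1) :=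
  CombMod.d (Coh.toGlobal f) (DX U) (ClSub.idealMod i.ker) n

/-- The components. -/
noncomputable def evX (n : ℕ) (b : (DX U).B n) : letI := modM f (ClSub.idealMod i.ker) ((DX U).W n b);
    CX f i U n →ₗ[R] Γ(ClSub.idealMod i.ker, (DX U).W n b) :=
  letI := modM f (ClSub.idealMod i.ker) ((DX U).W n b)
  { toFun := fun x => x b
    map_add' := fun _ _ => rfl
    map_smul' := fun _ _ => rfl }

section compare

variable {Z : Scheme.{u}} (z : Z ⟶ X) (j : tw f B ⟶ Z) [IsClosedImmersion j] (hj : j ≫ z = pr f B)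
  (hI : (mx f i rfl B).ker ^ 2 = ⊥)

/-- The ordered Čech datum on `Z`. -/
noncomputable abbrev DZ (U : ι → X.Opens) (z : Z ⟶ X) : Data Z.toTopCat := cech (X := Z.toTopCat) (pre z U)

include hj in
omit [Fintype ι] [LinearOrder ι] [IsClosedImmersion j] in
theorem open_eq (s : Finset ι) : j ⁻¹ᵁ (s.inf (pre z U)) = pr f B ⁻¹ᵁ (s.inf U) := by
  rw [inf_pre, ← Scheme.Hom.comp_preimage, hj]

/-- The sheaf on `Z`. -/
noncomputable abbrev GZ : CohTop.Ab Z.toTopCat := (pseq hI j).X₁

/-- The comparison map. -/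
noncomputable def eZ (n : ℕ) : letI := algU B; B.right ⊗[R] CX f i U n →+ (DZ U z).K n (GZ f i B j hI).obj :=
  letI := algU B
  AddMonoidHom.mk' (fun x b => letI := modM f (ClSub.idealMod i.ker) ((DX U).W n b);
    sg f i B (W := (DX U).W n b) (V := j ⁻¹ᵁ ((DZ U z).W n b)) (open_eq f B U z j hj b.1)
      ((evX f i U n b).lTensor B.right x)) (fun x y => by
    funext b
    letI := modM f (ClSub.idealMod i.ker) ((DX U).W n b)
    exact (congrArg (sg f i B (W := (DX U).W n b) (V := j ⁻¹ᵁ ((DZ U z).W n b)) (open_eq f B U z j hj b.1))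
      (map_add _ x y)).trans (map_add _ _ _))

theorem vl_eZ_tmul (n : ℕ) (c : B.right) (x : CX f i U n) (b : (DZ U z).B n) : letI := algU B;
    vl (mx f i rfl B) (U := j ⁻¹ᵁ ((DZ U z).W n b)) (eZ f i B U z j hj hI n (c ⊗ₜ[R] x) b) =
      (gl (qr f B) (j ⁻¹ᵁ ((DZ U z).W n b))).hom c * (pr f B).appLE ((DX U).W n b) (j ⁻¹ᵁ ((DZ U z).W n b))
        (open_eq f B U z j hj b.1).le (vl i (x b)) :=
  letI := algU B
  letI := modM f (ClSub.idealMod i.ker) ((DX U).W n b)
  vl_sg_tmul f i B (open_eq f B U z j hj b.1) c _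

theorem bijective_eZ (hB : B.hom.hom.Flat) (hU : ∀ s : Finset ι, s.Nonempty → IsAffineOpen (s.inf U)) (n : ℕ) :
    letI := algU B; Function.Bijective (eZ f i B U z j hj hI n) := by
  letI := algU B
  letI := fun b : (DX U).B n => modM f (ClSub.idealMod i.ker) ((DX U).W n b)
  exact bijective_pi (R := R) (B := B.right) (β := (DX U).B n) (N := fun b => Γ(ClSub.idealMod i.ker, (DX U).W n b))
    (T := fun b => Γ(ClSub.idealMod (mx f i rfl B).ker, j ⁻¹ᵁ ((DZ U z).W n b)))
    (fun b => sg f i B (W := (DX U).W n b) (V := j ⁻¹ᵁ ((DZ U z).W n b)) (open_eq f B U z j hj b.1))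
    (fun b => bijective_sg f i B (open_eq f B U z j hj b.1) hB (hU b.1 b.2.1)) (C := CX f i U n) (evX f i U n)
    ⟨fun x y hxy => funext fun b => congrFun hxy b, fun y => ⟨fun b => y b, rfl⟩⟩

end compare

section diff

/-- `vl` as an additive map. -/
noncomputable def vlH {P Q : Scheme.{u}} (i : Q ⟶ P) [IsClosedImmersion i] (V : P.Opens) :
    Γ(ClSub.idealMod i.ker, V) →+ Γ(P, V) := AddMonoidHom.mk' (vl i) (vl_add i)

theorem vlH_res {P Q : Scheme.{u}} (i : Q ⟶ P) [IsClosedImmersion i] {V V' : P.Opens} (h : V' ≤ V)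
    (x : Γ(ClSub.idealMod i.ker, V)) : vlH i V' ((ClSub.idealMod i.ker).presheaf.map (homOfLE h).op x) =
      (P.presheaf.map (homOfLE h).op).hom (vlH i V x) := PerfA.IdealModule.val_res i.ker h x

variable {Z : Scheme.{u}} (z : Z ⟶ X) (j : tw f B ⟶ Z) [IsClosedImmersion j] (hj : j ≫ z = pr f B)
  (hI : (mx f i rfl B).ker ^ 2 = ⊥)

theorem comm_eZ (n : ℕ) : letI := algU B; ∀ x : B.right ⊗[R] CX f i U n,
    eZ f i B U z j hj hI (n + 1) ((dX f i U n).lTensor B.right x) =
      (DZ U z).δ n (GZ f i B j hI).obj (eZ f i B U z j hj hI n x) := by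
  classical
  letI := algU B
  intro x
  induction x using TensorProduct.induction_on with
  | zero => rw [map_zero, map_zero, map_zero, map_zero]
  | add x y hx hy => rw [map_add, map_add, map_add, map_add, hx, hy]
  | tmul c x =>
    rw [LinearMap.lTensor_tmul]
    funext b
    apply vl_injective (mx f i rfl B) (j ⁻¹ᵁ ((DZ U z).W (n + 1) b))
    refine (vl_eZ_tmul f i B U z j hj hI (n + 1) c (dX f i U n x) b).trans ?_
    have h1 : dX f i U n x b = ∑ b', if h : (DX U).W (n + 1) b ≤ (DX U).W n b' then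
        (DX U).m n b b' • (ClSub.idealMod i.ker).presheaf.map (homOfLE h).op (x b') else 0 :=
      (DX U).δ_apply n x b
    have h2 := (DZ U z).δ_apply n (eZ f i B U z j hj hI n (c ⊗ₜ[R] x)) b
    have h3 : vl i (dX f i U n x b) = ∑ b', if h : (DX U).W (n + 1) b ≤ (DX U).W n b' then
        (DX U).m n b b' • (X.presheaf.map (homOfLE h).op).hom (vl i (x b')) else 0 := by
      rw [h1]
      refine (map_sum (vlH i ((DX U).W (n + 1) b)) _ _).trans ?_
      refine Finset.sum_congr rfl fun b' _ => ?_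
      split_ifs with h
      · exact (map_zsmul (vlH i _) _ _).trans (congrArg _ (vlH_res i h (x b')))
      · exact map_zero _
    have h4 : vl (mx f i rfl B) (U := j ⁻¹ᵁ ((DZ U z).W (n + 1) b))
        ((DZ U z).δ n (GZ f i B j hI).obj (eZ f i B U z j hj hI n (c ⊗ₜ[R] x)) b) =
        ∑ b', if h : (DZ U z).W (n + 1) b ≤ (DZ U z).W n b' then
        (DZ U z).m n b b' • ((tw f B).presheaf.map (homOfLE (j.preimage_mono h)).op).hom
          (vl (mx f i rfl B) (U := j ⁻¹ᵁ ((DZ U z).W n b')) (eZ f i B U z j hj hI n (c ⊗ₜ[R] x) b')) else 0 := by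
      rw [h2]
      refine (map_sum (vlH (mx f i rfl B) (j ⁻¹ᵁ ((DZ U z).W (n + 1) b))) _ _).trans ?_
      refine Finset.sum_congr rfl fun b' _ => ?_
      split_ifs with h
      · exact (map_zsmul (vlH (mx f i rfl B) (j ⁻¹ᵁ ((DZ U z).W (n + 1) b))) _ _).trans
          (congrArg _ (vlH_res (mx f i rfl B) (j.preimage_mono h) _))
      · exact map_zero _
    rw [h4, h3, map_sum, Finset.mul_sum]
    refine Finset.sum_congr rfl fun b' _ => ?_
    by_cases hm : (DX U).m n b b' = 0
    · have hm' : (DZ U z).m n b b' = 0 := hm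
      rw [hm, hm']
      simp only [zero_smul, dite_eq_ite, ite_self, map_zero, mul_zero]
    · have h5 : (DX U).W (n + 1) b ≤ (DX U).W n b' := (DX U).le n b b' hm
      have h6 : (DZ U z).W (n + 1) b ≤ (DZ U z).W n b' := (DZ U z).le n b b' hm
      rw [dif_pos h5, dif_pos h6, map_zsmul, mul_smul_comm]
      refine congrArg _ ?_
      rw [vl_eZ_tmul, map_mul]
      congr 1
      · exact congr($((gl_res (qr f B) (j.preimage_mono h6)).symm) c)
      · have h7 : X.presheaf.map (homOfLE h5).op ≫ (pr f B).appLE _ _ (open_eq f B U z j hj b.1).le =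
            (pr f B).appLE _ _ (open_eq f B U z j hj b'.1).le ≫
              (tw f B).presheaf.map (homOfLE (j.preimage_mono h6)).op := by
          rw [Scheme.Hom.map_appLE, Scheme.Hom.appLE_map]
          rfl
        exact congr($h7 (vl i (x b')))

/-- The comparison. -/
noncomputable def cmp (hB : B.hom.hom.Flat) (hU : ∀ s : Finset ι, s.Nonempty → IsAffineOpen (s.inf U)) :
    letI := algU B; GlueCech.Cmp (DZ U z) (CX f i U) (dX f i U) B.right (GZ f i B j hI).obj :=
  letI := algU B
  { e := eZ f i B U z j hj hI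
    bij := bijective_eZ f i B U z j hj hI hB hU
    comm := comm_eZ f i B U z j hj hI }

end diff

end K123.GlueCmp
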