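import Groth.Agent.PicLoc.K123.GlueCmp
import Groth.Agent.Ega3B.FlatCohBC
import Groth.Agent.VarietyB.DegCartier
import Groth.Agent.S0002

/-!
# Finitely many generators of the cohomology of the cochains of the ideal of `Y`
-/

set_option autoImplicit false
set_option linter.style.haveILetI false
universe u

open CategoryTheory CategoryTheory.Limits AlgebraicGeometry Opposite TopologicalSpace TensorProduct

namespace K123.GlueGen

open K123.GlueSeq K123.GlueCmp
open Groth.Agent Groth.Agent.Ega3B Groth.Agent.Ega3B.CubeData Groth.Agent.Ega3B.CombRes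

theorem exists_gen_of_theta {R : Type u} [CommRing R] {C : ℕ → Type u} [∀ n, AddCommGroup (C n)]
    [∀ n, Module R (C n)] (d : ∀ n, C n →ₗ[R] C (n + 1)) (n : ℕ) {H : Type u} [AddCommGroup H] [Module R H]
    [Module.Finite R H] (θ : LinearMap.ker (d (n + 1)) →ₗ[R] H) (hθ : Function.Surjective θ)
    (hθ0 : ∀ z, θ z = 0 ↔ z ∈ FlatCxB.bz d (n + 1)) :
    ∃ (m : ℕ) (z : Fin m → C (n + 1)), GlueAlg.Gen (d n) (d (n + 1)) z := by
  obtain ⟨m, s, hs⟩ := Module.Finite.exists_fin (R := R) (M := H)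
  choose z hz using fun k => hθ (s k)
  refine ⟨m, fun k => (z k).1, ⟨fun k => (z k).2, fun x hx => ?_⟩⟩
  have h1 : θ ⟨x, hx⟩ ∈ Submodule.span R (Set.range s) := by rw [hs]; trivial
  obtain ⟨r, hr⟩ := (Submodule.mem_span_range_iff_exists_fun R).mp h1
  have h2 : θ (⟨x, hx⟩ - ∑ k, r k • z k) = 0 := by
    rw [map_sub, map_sum, sub_eq_zero, ← hr]
    exact Finset.sum_congr rfl fun k _ => by rw [map_smul, hz]
  obtain ⟨y, hy⟩ := (hθ0 _).mp h2
  refine ⟨r, y, ?_⟩
  rw [hy]
  simp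

variable {R : Type u} [CommRing R] [IsNoetherianRing R] {X Y : Scheme.{u}} (f : X ⟶ Spec (CommRingCat.of R))
  [IsProper f] (i : Y ⟶ X) {ι : Type} [LinearOrder ι] [Fintype ι] (U : ι → X.Opens)

theorem exists_gen (hcov : ⨆ i, U i = ⊤) (hU : ∀ s : Finset ι, s.Nonempty → IsAffineOpen (s.inf U)) (n : ℕ) :
    ∃ (m : ℕ) (z : Fin m → CX f i U (n + 1)), GlueAlg.Gen (dX f i U n) (dX f i U (n + 1)) z := by
  letI : X.Over (Spec (CommRingCat.of R)) := ⟨f⟩
  haveI : IsProper (X ↘ Spec (CommRingCat.of R)) := (inferInstance : IsProper f)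
  haveI : IsLocallyNoetherian X := LocallyOfFiniteType.isLocallyNoetherian f
  have hM : Coh.IsCoh (ClSub.idealMod i.ker) := VarietyB.DegCartier.isCoh_idealMod i.ker
  haveI : Module.Finite R (Coh.HH X (ClSub.idealMod i.ker) (n + 1)) := S0002.result R X _ hM (n + 1)
  obtain ⟨θ, hθ, hθ0⟩ := FlatCohBC.exists_theta_lin R (DX U) (cech_locGood (X := X.toTopCat) U hcov)
    (ClSub.idealMod i.ker) hM.1 (fun n b => hU b.1 b.2.1) (n + 1)
  exact exists_gen_of_theta (C := fun n => CX f i U n) (fun n => dX f i U n) n θ hθ hθ0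

end K123.GlueGen
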