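import Mathlib.RingTheory.Flat.Basic
import Mathlib.RingTheory.IsTensorProduct
import Mathlib.Algebra.Category.Ring.Constructions
import Mathlib.LinearAlgebra.TensorProduct.Pi
import Mathlib.RingTheory.Flat.Tensor

/-!
# Base change of kernels of ring maps, with explicit maps
-/

set_option autoImplicit false
set_option linter.style.haveILetI false
universe u

open TensorProduct CategoryTheory CategoryTheory.Limits

namespace K123.GlueTens

variable {R A B A' M : Type u} [CommRing R] [CommRing A] [CommRing B] [CommRing A'] [Algebra R A] [Algebra R B]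
  [AddCommGroup M] [Module R M]

/-- `b ⊗ m ↦ q b * ψ (v m)`. -/
noncomputable def EE (ψ : A →+* A') (q : B →+* A') (h : ∀ r, ψ (algebraMap R A r) = q (algebraMap R B r))
    (v : M →ₗ[R] A) : B ⊗[R] M →+ A' :=
  TensorProduct.liftAddHom
    { toFun := fun b =>
        { toFun := fun m => q b * ψ (v m)
          map_zero' := by rw [map_zero, map_zero, mul_zero]
          map_add' := fun x y => by rw [map_add, map_add, mul_add] }
      map_zero' := by
        ext m
        change q 0 * ψ (v m) = 0
        rw [map_zero, zero_mul]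
      map_add' := fun x y => by
        ext m
        change q (x + y) * ψ (v m) = q x * ψ (v m) + q y * ψ (v m)
        rw [map_add, add_mul] }
    (fun r b m => by
      change q (r • b) * ψ (v m) = q b * ψ (v (r • m))
      rw [v.map_smul, Algebra.smul_def, Algebra.smul_def, map_mul, map_mul, h]
      ring)

variable (ψ : A →+* A') (q : B →+* A') (h : ∀ r, ψ (algebraMap R A r) = q (algebraMap R B r)) (v : M →ₗ[R] A)

@[simp] theorem EE_tmul (b : B) (m : M) : EE ψ q h v (b ⊗ₜ m) = q b * ψ (v m) := rfl

theorem EE_eq (x : B ⊗[R] M) : EE ψ q h v x = EE ψ q h LinearMap.id (v.lTensor B x) := by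
  induction x using TensorProduct.induction_on with
  | zero => rw [map_zero, map_zero, map_zero]
  | tmul b m => rw [LinearMap.lTensor_tmul, EE_tmul, EE_tmul, LinearMap.id_apply]
  | add x y hx hy => rw [map_add, map_add, map_add, hx, hy]

variable {AY A'Y : Type u} [CommRing AY] [CommRing A'Y] [Algebra R AY] {ψY : AY →+* A'Y} {qY : B →+* A'Y}
  {hY : ∀ r, ψY (algebraMap R AY r) = qY (algebraMap R B r)} {ψ q h v}
  (hb : Function.Bijective (EE ψ q h LinearMap.id)) (hbY : Function.Bijective (EE ψY qY hY LinearMap.id))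
  (ρ : A →ₐ[R] AY) (ρ' : A' →+* A'Y) (hρ : ∀ a, ρ' (ψ a) = ψY (ρ a)) (hρq : ∀ b, ρ' (q b) = qY b)
  (hv : Function.Injective v) (hvr : ∀ a, ρ a = 0 ↔ ∃ m, v m = a)

include hb hv in
theorem EE_injective [Module.Flat R B] : Function.Injective (EE ψ q h v) := by
  intro x y hxy
  rw [EE_eq (v := v) (x := x), EE_eq (v := v) (x := y)] at hxy
  exact Module.Flat.lTensor_preserves_injective_linearMap v hv (hb.1 hxy)

include hb hbY hρ hρq hvr in
theorem EE_range [Module.Flat R B] (y : A') : ρ' y = 0 ↔ ∃ x, EE ψ q h v x = y := by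
  have h1 : Function.Exact (v.lTensor B) (ρ.toLinearMap.lTensor B) :=
    Module.Flat.lTensor_exact B (fun a => hvr a)
  have h2 : ∀ x : B ⊗[R] A, ρ' (EE ψ q h LinearMap.id x) = EE ψY qY hY LinearMap.id (ρ.toLinearMap.lTensor B x) := by
    intro x
    induction x using TensorProduct.induction_on with
    | zero => rw [map_zero, map_zero, map_zero, map_zero]
    | tmul b m =>
      rw [LinearMap.lTensor_tmul, EE_tmul, EE_tmul, LinearMap.id_apply, LinearMap.id_apply, map_mul, hρ, hρq]
      rfl
    | add x y hx hy => rw [map_add, map_add, map_add, map_add, hx, hy]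
  obtain ⟨x, rfl⟩ := hb.2 y
  rw [h2]
  constructor
  · intro h3
    have h4 : ρ.toLinearMap.lTensor B x = 0 := hbY.1 (h3.trans (map_zero _).symm)
    obtain ⟨w, hw⟩ := (h1 x).mp h4
    exact ⟨w, by rw [EE_eq, hw]⟩
  · rintro ⟨w, hw⟩
    rw [EE_eq] at hw
    have h5 := hb.1 hw
    rw [← h5, (h1 _).mpr ⟨w, rfl⟩, map_zero]

/-- The pushout condition in explicit form. -/
theorem bijective_of_isPushout {R A B A' : Type u} [CommRing R] [CommRing A] [CommRing B] [CommRing A']
    [Algebra R A] [Algebra R B] (ψ : A →+* A') (q : B →+* A')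
    (h : ∀ r, ψ (algebraMap R A r) = q (algebraMap R B r))
    (H : IsPushout (CommRingCat.ofHom (algebraMap R A)) (CommRingCat.ofHom (algebraMap R B))
      (CommRingCat.ofHom ψ) (CommRingCat.ofHom q)) : Function.Bijective (EE ψ q h LinearMap.id) := by
  letI : Algebra A A' := ψ.toAlgebra
  letI : Algebra B A' := q.toAlgebra
  letI : Algebra R A' := (ψ.comp (algebraMap R A)).toAlgebra
  haveI : IsScalarTower R A A' := IsScalarTower.of_algebraMap_eq fun r => rfl
  haveI : IsScalarTower R B A' := IsScalarTower.of_algebraMap_eq fun r => h r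
  have H' : IsPushout (CommRingCat.ofHom (algebraMap R B)) (CommRingCat.ofHom (algebraMap R A))
      (CommRingCat.ofHom (algebraMap B A')) (CommRingCat.ofHom (algebraMap A A')) := H.flip
  have H2 : Algebra.IsPushout R B A A' := CommRingCat.isPushout_iff_isPushout.1 H'
  have H3 := H2.out
  have h4 : ⇑(EE ψ q h (LinearMap.id : A →ₗ[R] A)) = H3.equiv := by
    funext x
    induction x using TensorProduct.induction_on with
    | zero => rw [map_zero, map_zero]
    | tmul b m =>
      rw [EE_tmul, IsBaseChange.equiv_tmul, Algebra.smul_def]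
      rfl
    | add x y hx hy => rw [map_add, map_add, hx, hy]
  rw [h4]
  exact H3.equiv.bijective

section pi

variable {β : Type} [Fintype β] [DecidableEq β] {N : β → Type u} [∀ b, AddCommGroup (N b)] [∀ b, Module R (N b)]
  {T : β → Type u} [∀ b, AddCommGroup (T b)] (g : ∀ b, B ⊗[R] N b →+ T b) (hg : ∀ b, Function.Bijective (g b))
  {C : Type u} [AddCommGroup C] [Module R C] (ev : ∀ b, C →ₗ[R] N b)
  (hev : Function.Bijective (fun (x : C) (b : β) => ev b x))

include hg hev in
theorem bijective_pi : Function.Bijective (fun (x : B ⊗[R] C) (b : β) => g b ((ev b).lTensor B x)) := by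
  let E : C ≃ₗ[R] ∀ b, N b := LinearEquiv.ofBijective (LinearMap.pi ev) hev
  have h1 : ∀ (x : B ⊗[R] C) (b : β), TensorProduct.piRight R R B N (E.toLinearMap.lTensor B x) b =
      (ev b).lTensor B x := by
    intro x b
    induction x using TensorProduct.induction_on with
    | zero => simp
    | tmul c m => simp [E]
    | add x y hx hy => rw [map_add, map_add, map_add, Pi.add_apply, hx, hy]
  have h2 : (fun (x : B ⊗[R] C) (b : β) => g b ((ev b).lTensor B x)) =
      (fun (y : ∀ b, B ⊗[R] N b) (b : β) => g b (y b)) ∘ (TensorProduct.piRight R R B N) ∘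
        (LinearEquiv.lTensor B E) := by
    funext x b
    exact congrArg (g b) (h1 x b).symm
  rw [h2]
  refine Function.Bijective.comp ?_ ((LinearEquiv.bijective _).comp (LinearEquiv.bijective _))
  exact ⟨fun x y hxy => funext fun b => (hg b).1 (congrFun hxy b),
    fun y => ⟨fun b => ((hg b).2 (y b)).choose, funext fun b => ((hg b).2 (y b)).choose_spec⟩⟩

end pi

end K123.GlueTens
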