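import Groth.Agent.PicLoc.K123.GlueSeq
import Groth.Agent.PicLoc.K123.GlueTens
import Groth.Agent.PicLoc.K257.RTw

/-!
# Sections of the ideal of `Y_B` in `X_B` over an affine open of `X`, for `B` flat
-/

set_option autoImplicit false
set_option linter.style.haveILetI false
universe u

open CategoryTheory CategoryTheory.Limits AlgebraicGeometry Opposite TopologicalSpace TensorProduct

namespace K123.GlueSec

open K729.SecPush K257.RTw K123.GlueSeq K123.GlueTens

variable {R : Type u} [CommRing R] {X Y : Scheme.{u}} (f : X ⟶ Spec (CommRingCat.of R)) (i : Y ⟶ X)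

/-- `R`-module structure on sections. -/
noncomputable abbrev modM (M : X.Modules) (W : X.Opens) : Module R Γ(M, W) := Module.compHom _ (gl f W).hom

/-- `R`-algebra structure on functions. -/
noncomputable abbrev algS (W : X.Opens) : Algebra R Γ(X, W) := (gl f W).hom.toAlgebra

/-- `R`-algebra structure -/
noncomputable abbrev algU (B : Under (CommRingCat.of R)) : Algebra R B.right := B.hom.hom.toAlgebra

variable (B : Under (CommRingCat.of R))

instance isClosedImmersion_mx [IsClosedImmersion i] : IsClosedImmersion (mx f i rfl B) :=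
  MorphismProperty.of_isPullback (isPullback_mx f i rfl B) (inferInstance : IsClosedImmersion i)

variable {W : X.Opens} {V : (tw f B).Opens} (hV : V = pr f B ⁻¹ᵁ W)

include hV in
theorem glue_h (r : R) : (pr f B).appLE W V hV.le ((gl f W).hom r) = (gl (qr f B) V).hom (B.hom.hom r) := by
  have h1 : gl f W ≫ (pr f B).appLE W V hV.le = B.hom ≫ gl (qr f B) V := by
    rw [gl_eq_comp, gl_map]
    exact gl_congr (isPullback_tw f B).w V
  exact congr($h1 r)

/-- `b ⊗ m ↦ q^* b * p^* m`. -/
noncomputable def EV [IsClosedImmersion i] : letI := modM f (ClSub.idealMod i.ker) W; letI := algU B;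
    B.right ⊗[R] Γ(ClSub.idealMod i.ker, W) →+ Γ(tw f B, V) :=
  letI := modM f (ClSub.idealMod i.ker) W
  letI := algU B
  letI := algS f W
  EE ((pr f B).appLE W V hV.le).hom (gl (qr f B) V).hom (glue_h f B hV)
    { toFun := vl i
      map_add' := vl_add i
      map_smul' := fun r x => vl_smul i ((gl f W).hom r) x }

theorem EV_tmul [IsClosedImmersion i] (b : B.right) (m : Γ(ClSub.idealMod i.ker, W)) :
    letI := modM f (ClSub.idealMod i.ker) W; letI := algU B;
    EV f i B hV (b ⊗ₜ m) = (gl (qr f B) V).hom b * (pr f B).appLE W V hV.le (vl i m) := rfl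

theorem bijective_EE (hW : IsAffineOpen W) : letI := algS f W; letI := algU B
    Function.Bijective (EE (R := R) ((pr f B).appLE W V hV.le).hom (gl (qr f B) V).hom (glue_h f B hV)
      LinearMap.id) := by
  letI := algS f W
  letI := algU B
  exact bijective_of_isPushout (R := R) _ _ _ (isPushout_of_affine f B hV hW)

include hV in
theorem preimage_mx : mx f i rfl B ⁻¹ᵁ V = pr (i ≫ f) B ⁻¹ᵁ (i ⁻¹ᵁ W) := by
  rw [hV, ← Scheme.Hom.comp_preimage, ← Scheme.Hom.comp_preimage, mx_pr]

theorem EV_injective [IsClosedImmersion i] (hB : B.hom.hom.Flat) (hW : IsAffineOpen W) :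
    letI := modM f (ClSub.idealMod i.ker) W; letI := algU B; Function.Injective (EV f i B hV) := by
  letI := modM f (ClSub.idealMod i.ker) W
  letI := algU B
  letI := algS f W
  haveI : Module.Flat R B.right := hB
  exact EE_injective (bijective_EE f B hV hW) (vl_injective i W)

theorem EV_range [IsClosedImmersion i] (hB : B.hom.hom.Flat) (hW : IsAffineOpen W) (y : Γ(tw f B, V)) :
    letI := modM f (ClSub.idealMod i.ker) W; letI := algU B;
    (mx f i rfl B).app V y = 0 ↔ ∃ x, EV f i B hV x = y := by
  letI := modM f (ClSub.idealMod i.ker) W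
  letI := algU B
  letI := algS f W
  haveI : Module.Flat R B.right := hB
  letI := algS (i ≫ f) (i ⁻¹ᵁ W)
  let ρ : Γ(X, W) →ₐ[R] Γ(Y, i ⁻¹ᵁ W) :=
    { toRingHom := (i.app W).hom
      commutes' := fun r => congr($(gl_comp i f W) r) }
  refine EE_range (bijective_EE f B hV hW) (bijective_EE (i ≫ f) B (preimage_mx f i B hV) (hW.preimage i))
    ρ ((mx f i rfl B).app V).hom (fun a => ?_) (fun b => ?_) (fun a => ?_) y
  · exact app_appLE (mx_pr f i rfl B) _ _ a
  · have h1 := gl_comp (mx f i rfl B) (qr f B) V
    have h2 := gl_congr (mx_qr f i rfl B) (mx f i rfl B ⁻¹ᵁ V)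
    exact congr($(h1.trans h2) b)
  · exact ⟨fun h => exists_vl i a h, fun ⟨m, hm⟩ => by
      rw [← hm]
      exact app_vl i m⟩

end K123.GlueSec
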