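import Groth.Agent.PicGrp.K858.MVSeq
import Groth.Agent.CohtopA.PushClosed

/-!
# The truncated exponential sequence of a closed immersion with square-zero ideal, pushed forward along a closed immersion

`pseq i hI j : 0 → j_* I → j_* O_P^× → (i ≫ j)_* O_Y^× → 0` on `Z`, for `i : Y ⟶ P`, `j : P ⟶ Z`, and its functoriality
`pmap`.
-/

set_option autoImplicit false
set_option linter.unusedSectionVars false
universe u

open CategoryTheory CategoryTheory.Limits AlgebraicGeometry Opposite TopologicalSpace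

namespace K123.GlueSeq

open Groth.Agent.Fdesc.LocGen K858.UnitsCls K858.UnitsHom K858.Basic K858.MVSeq K858.Thick
open Groth.Agent Groth.Agent.CohtopA.Sec
open Groth.Agent.Fga.SqZero (expMap exists_affine expUnit_val)

variable {P Y Z : Scheme.{u}}

theorem app_eq_zero_iff' {Q : Scheme.{u}} (g : Y ⟶ Q) (h : Q ⟶ P) (i : Y ⟶ P) (e : g ≫ h = i) [IsIso g]
    (U : P.Opens) (a : Γ(P, U)) : i.app U a = 0 ↔ h.app U a = 0 := by
  subst e
  have h2 : (g ≫ h).app U a = g.app (h ⁻¹ᵁ U) (h.app U a) := congr($(Scheme.Hom.comp_app g h U) a)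
  rw [h2]
  have h1 : Function.Injective (g.app (h ⁻¹ᵁ U)) :=
    ((ConcreteCategory.isIso_iff_bijective (g.app (h ⁻¹ᵁ U))).mp inferInstance).1
  exact map_eq_zero_iff _ h1

variable (i : Y ⟶ P) [IsClosedImmersion i]

theorem app_eq_zero_iff (U : P.Opens) (a : Γ(P, U)) : i.app U a = 0 ↔ i.ker.subschemeι.app U a = 0 :=
  app_eq_zero_iff' i.toImage i.imageι i i.toImage_imageι U a

/-- the value of a section of the ideal. -/
noncomputable abbrev vl {U : P.Opens} (x : Γ(ClSub.idealMod i.ker, U)) : Γ(P, U) := PerfA.IdealModule.val i.ker x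

theorem app_vl {U : P.Opens} (x : Γ(ClSub.idealMod i.ker, U)) : i.app U (vl i x) = 0 :=
  (app_eq_zero_iff i U _).mpr (Fga.SqZero.app_val i.ker x)

theorem exists_vl {U : P.Opens} (a : Γ(P, U)) (ha : i.app U a = 0) :
    ∃ x : Γ(ClSub.idealMod i.ker, U), vl i x = a :=
  Fga.SqZero.exists_val i.ker a ((app_eq_zero_iff i U a).mp ha)

theorem vl_injective (U : P.Opens) : Function.Injective (vl i (U := U)) :=
  PerfA.IdealModule.val_injective i.ker U

theorem vl_add {U : P.Opens} (x y : Γ(ClSub.idealMod i.ker, U)) : vl i (x + y) = vl i x + vl i y :=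
  Fga.SqZero.ival_add i.ker x y

theorem vl_zero {U : P.Opens} : vl i (0 : Γ(ClSub.idealMod i.ker, U)) = 0 := PerfA.IdealModule.val_zero i.ker

theorem vl_smul {U : P.Opens} (r : Γ(P, U)) (x : Γ(ClSub.idealMod i.ker, U)) : vl i (r • x) = r * vl i x :=
  PerfA.IdealModule.val_smul i.ker r x

variable {i} (hI : i.ker ^ 2 = ⊥)

include hI in
theorem mul_eq_zero {U : P.Opens} (a b : Γ(P, U)) (ha : i.app U a = 0) (hb : i.app U b = 0) : a * b = 0 :=
  Fga.SqZero.mul_eq_zero i.ker hI a b ((app_eq_zero_iff i U a).mp ha) ((app_eq_zero_iff i U b).mp hb)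

include hI in
/-- Units of `Y` lift to units of `P` over affine opens. -/
theorem exists_unit_lift (V : P.affineOpens) (u : Γ(Y, i ⁻¹ᵁ V.1)ˣ) :
    ∃ v : Γ(P, V.1)ˣ, i.app V.1 v = u := by
  have hs : Function.Surjective (i.app V.1) := i.app_surjective V.1 V.2
  obtain ⟨a, ha⟩ := hs u
  obtain ⟨b, hb⟩ := hs (u⁻¹ : Γ(Y, i ⁻¹ᵁ V.1)ˣ)
  have h1 : i.app V.1 (a * b - 1) = 0 := by
    rw [map_sub, map_mul, map_one]
    refine (congrArg₂ (fun s t => s * t - 1) ha hb).trans ?_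
    rw [sub_eq_zero]
    exact u.mul_inv
  have h2 := mul_eq_zero hI _ _ h1 h1
  have h3 : a * (b * (2 - a * b)) = 1 := by linear_combination -h2
  exact ⟨⟨a, b * (2 - a * b), h3, by rw [mul_comm]; exact h3⟩, ha⟩

/-- The truncated exponential sequence. -/
noncomputable def seq : ShortComplex (CohTop.Ab P.toTopCat) :=
  ShortComplex.mk (X₁ := Coh.toAb (ClSub.idealMod i.ker)) (X₂ := UnitsSh.unitsAb P) (X₃ := US i)
    (expMap hI) (UnitsSh.comap i) (by
      ext U x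
      apply (toU (f := i) (V := U.unop)).injective
      apply Units.ext
      change i.app U.unop (1 + vl i (U := U.unop) x) = 1
      rw [map_add, map_one]
      exact (congrArg (1 + ·) (app_vl i (U := U.unop) x)).trans (add_zero 1))

theorem seq_shortExact : (seq hI).ShortExact := by
  apply Fga.Units.shortExact_of_sections
  · intro U x y hxy
    have h1 := congrArg (fun s => ((Fga.Units.val (X := P) (U := U) s : Γ(P, U)ˣ) : Γ(P, U))) hxy
    exact vl_injective i U (add_left_cancel h1)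
  · intro U s hs
    have h2 : i.app U ((Fga.Units.val (X := P) (U := U) s : Γ(P, U)ˣ) : Γ(P, U)) = 1 :=
      congrArg (fun s => ((toU (f := i) (V := U) s : Γ(Y, i ⁻¹ᵁ U)ˣ) : Γ(Y, i ⁻¹ᵁ U))) hs
    obtain ⟨x, hx⟩ := exists_vl i (((Fga.Units.val (X := P) (U := U) s : Γ(P, U)ˣ) : Γ(P, U)) - 1) (by
      rw [map_sub, h2, map_one, sub_self])
    refine ⟨x, ?_⟩
    apply Fga.Units.val_injective
    apply Units.ext
    exact (congrArg (1 + ·) hx).trans (by ring)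
  · intro U t x hx
    obtain ⟨V, hxV, hVU⟩ := exists_affine hx
    obtain ⟨v, hv⟩ := exists_unit_lift hI V (toU (f := i) (V := V.1) (r (US i) hVU t))
    refine ⟨V.1, hVU, Fga.Units.mk v, hxV, ?_⟩
    apply (toU (f := i) (V := V.1)).injective
    apply Units.ext
    exact hv

variable (j : P ⟶ Z) [IsClosedImmersion j]

/-- The pushed forward sequence. -/
noncomputable def pseq : ShortComplex (CohTop.Ab Z.toTopCat) := (seq hI).map (CohTop.push j.base)

theorem pseq_shortExact : (pseq hI j).ShortExact := by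
  have h1 := CohtopA.PushClosed.preservesFiniteColimits_push_of_isClosedEmbedding j.base j.isClosedEmbedding
  exact (seq_shortExact hI).map_of_exact (CohTop.push j.base)

/-- sections of the first term -/
noncomputable abbrev s₁ {V : Z.Opens} (x : Γs (pseq hI j).X₁ V) : Γ(P, j ⁻¹ᵁ V) := vl i (U := j ⁻¹ᵁ V) x

theorem toU_f {V : Z.Opens} (x : Γs (pseq hI j).X₁ V) :
    ((toU (f := j) (V := V) (m (pseq hI j).f V x) : Γ(P, j ⁻¹ᵁ V)ˣ) : Γ(P, j ⁻¹ᵁ V)) = 1 + s₁ hI j x := rfl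


theorem mem_iff_f {V : Z.Opens} (x : Γs (pseq hI j).X₂ V) : m (pseq hI j).g V x = 0 ↔
    i.app (j ⁻¹ᵁ V) ((toU (f := j) (V := V) x : Γ(P, j ⁻¹ᵁ V)ˣ) : Γ(P, j ⁻¹ᵁ V)) = 1 := by
  constructor
  · intro h
    exact congrArg (fun s => ((toU (f := i ≫ j) (V := V) s : Γ(Y, (i ≫ j) ⁻¹ᵁ V)ˣ) : Γ(Y, (i ≫ j) ⁻¹ᵁ V))) h
  · intro h
    apply (toU (f := i ≫ j) (V := V)).injective
    exact Units.ext h

theorem app_appLE {A B C D : Scheme.{u}} {i : A ⟶ B} {a : B ⟶ C} {c : A ⟶ D} {i' : D ⟶ C} (hc : i ≫ a = c ≫ i')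
    {U : C.Opens} {W : B.Opens} (h : W ≤ a ⁻¹ᵁ U) (h' : i ⁻¹ᵁ W ≤ c ⁻¹ᵁ (i' ⁻¹ᵁ U)) (x : Γ(C, U)) :
    i.app W (a.appLE U W h x) = c.appLE (i' ⁻¹ᵁ U) (i ⁻¹ᵁ W) h' (i'.app U x) := by
  have e1 : a.appLE U W h ≫ i.app W = (i ≫ a).appLE U (i ⁻¹ᵁ W) (by
      rw [hc, Scheme.Hom.comp_preimage]; exact h') := by
    rw [← Scheme.Hom.appLE_eq_app, Scheme.Hom.appLE_comp_appLE]
  have e2 : i'.app U ≫ c.appLE (i' ⁻¹ᵁ U) (i ⁻¹ᵁ W) h' = (c ≫ i').appLE U (i ⁻¹ᵁ W) h' := by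
    rw [← Scheme.Hom.appLE_eq_app, Scheme.Hom.appLE_comp_appLE]
  have e3 : a.appLE U W h ≫ i.app W = i'.app U ≫ c.appLE (i' ⁻¹ᵁ U) (i ⁻¹ᵁ W) h' := by
    rw [e1, e2]
    congr 1
  exact congr($e3 x)

section functoriality

variable {P' Y' : Scheme.{u}} {i' : Y' ⟶ P'} [IsClosedImmersion i'] (hI' : i'.ker ^ 2 = ⊥) (j' : P' ⟶ Z)
  [IsClosedImmersion j'] (a : P ⟶ P') (ha : a ≫ j' = j) (c : Y ⟶ Y') (hc : i ≫ a = c ≫ i')

/-- the map on the middle terms -/
noncomputable def t₂ : (pseq hI' j').X₂ ⟶ (pseq hI j).X₂ := resMap' a j' j ha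

/-- the map on the third terms -/
noncomputable def t₃ : (pseq hI' j').X₃ ⟶ (pseq hI j).X₃ :=
  resMap' c (i' ≫ j') (i ≫ j) (by rw [← Category.assoc, ← hc, Category.assoc, ha])

theorem comm₂₃ : t₂ hI j hI' j' a ha ≫ (pseq hI j).g = (pseq hI' j').g ≫ t₃ hI j hI' j' a ha c hc := by
  ext V x
  obtain ⟨V⟩ := V
  apply (toU (f := i ≫ j) (V := V)).injective
  apply Units.ext
  have h1 := toU_resMap' a j' j ha (V := V) x
  have h2 := toU_resMap' c (i' ≫ j') (i ≫ j) (by rw [← Category.assoc, ← hc, Category.assoc, ha]) (V := V)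
    (m (pseq hI' j').g V x)
  refine Eq.trans ?_ h2.symm
  refine (congrArg (i.app (j ⁻¹ᵁ V)) h1).trans ?_
  exact app_appLE hc (pre_le' a j' j ha V) (pre_le' c (i' ≫ j') (i ≫ j)
    (by rw [← Category.assoc, ← hc, Category.assoc, ha]) V) (toU (f := j') (V := V) x : Γ(P', j' ⁻¹ᵁ V)ˣ).1

/-- the map on the first terms -/
noncomputable def t₁ : (pseq hI' j').X₁ ⟶ (pseq hI j).X₁ :=
  haveI := (pseq_shortExact hI j).mono_f
  (pseq_shortExact hI j).exact.lift ((pseq hI' j').f ≫ t₂ hI j hI' j' a ha) (by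
    rw [Category.assoc, comm₂₃ hI j hI' j' a ha c hc, (pseq hI' j').zero_assoc, zero_comp])

theorem t₁_f : t₁ hI j hI' j' a ha c hc ≫ (pseq hI j).f = (pseq hI' j').f ≫ t₂ hI j hI' j' a ha :=
  haveI := (pseq_shortExact hI j).mono_f
  (pseq_shortExact hI j).exact.lift_f _ _

/-- the map of short exact sequences -/
noncomputable def pmap : pseq hI' j' ⟶ pseq hI j where
  τ₁ := t₁ hI j hI' j' a ha c hc
  τ₂ := t₂ hI j hI' j' a ha
  τ₃ := t₃ hI j hI' j' a ha c hc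
  comm₁₂ := t₁_f hI j hI' j' a ha c hc
  comm₂₃ := comm₂₃ hI j hI' j' a ha c hc

theorem s₁_t₁ {V : Z.Opens} (x : Γs (pseq hI' j').X₁ V) :
    s₁ hI j (m (t₁ hI j hI' j' a ha c hc) V x) = a.appLE (j' ⁻¹ᵁ V) (j ⁻¹ᵁ V) (pre_le' a j' j ha V) (s₁ hI' j' x) := by
  have h1 := congrArg (fun φ => ((toU (f := j) (V := V) (m φ V x) : Γ(P, j ⁻¹ᵁ V)ˣ) : Γ(P, j ⁻¹ᵁ V)))
    (t₁_f hI j hI' j' a ha c hc)
  have h2 := toU_resMap' a j' j ha (V := V) (m (pseq hI' j').f V x)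
  have h3 : 1 + s₁ hI j (m (t₁ hI j hI' j' a ha c hc) V x) =
      a.appLE (j' ⁻¹ᵁ V) (j ⁻¹ᵁ V) (pre_le' a j' j ha V) (1 + s₁ hI' j' x) := h1.trans h2
  rw [map_add, map_one] at h3
  exact add_left_cancel h3

end functoriality

end K123.GlueSeq
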